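import Groth.Agent.S9435
import Mathlib

/-! # Étale quasi-sections through closed points of smooth fibres with separable residue fields -/

universe u

open CategoryTheory Limits AlgebraicGeometry TensorProduct TopologicalSpace

set_option backward.isDefEq.respectTransparency false
set_option backward.isDefEq.respectTransparency.types false
set_option linter.style.haveILetI false

noncomputable section

namespace Groth.Agent.SmoothQS

/-- The residue field at a closed point of a fibre is finite. -/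
theorem finite_residueField (R A : Type u) [CommRing R] [CommRing A] [Algebra R A]
    [Algebra.FiniteType R A] (p : Ideal R) [p.IsPrime] (q : Ideal A) [q.IsPrime] [q.LiesOver p]
    [Algebra p.ResidueField q.ResidueField] [IsScalarTower R p.ResidueField q.ResidueField]
    (hmax : ∀ q' : Ideal A, q'.IsPrime → q ≤ q' → q'.comap (algebraMap R A) = p → q' = q) :
    Module.Finite p.ResidueField q.ResidueField := by
  let k := p.ResidueField
  let Φ : p.Fiber A →ₐ[k] q.ResidueField := Algebra.TensorProduct.lift (Algebra.ofId k q.ResidueField)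
    (IsScalarTower.toAlgHom R A q.ResidueField) fun _ _ => Commute.all _ _
  have hΦ : ∀ a : A, Φ (1 ⊗ₜ a) = algebraMap A q.ResidueField a := fun a => by
    show Algebra.ofId k q.ResidueField 1 * algebraMap A q.ResidueField a = _
    rw [map_one, one_mul]
  let P : PrimeSpectrum (p.Fiber A) := ⟨RingHom.ker Φ.toRingHom, RingHom.ker_isPrime _⟩
  have hP : P.asIdeal.IsMaximal := by
    obtain ⟨M, hM, hPM⟩ := P.asIdeal.exists_le_maximal P.isPrime.ne_top
    let e := PrimeSpectrum.preimageOrderIsoFiber R A ⟨p, inferInstance⟩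
    have hsymm : ∀ Q : PrimeSpectrum (p.Fiber A), (e.symm Q).1.asIdeal =
        Q.asIdeal.comap (Algebra.TensorProduct.includeRight : A →ₐ[R] p.Fiber A).toRingHom := fun Q => rfl
    have h1 : (e.symm P).1.asIdeal = q := by
      rw [hsymm]
      ext a
      show Φ (1 ⊗ₜ a) = 0 ↔ a ∈ q
      rw [hΦ, Ideal.algebraMap_residueField_eq_zero]
    let M' : PrimeSpectrum (p.Fiber A) := ⟨M, hM.isPrime⟩
    have h2 : q ≤ (e.symm M').1.asIdeal := h1 ▸ e.symm.monotone (show P ≤ M' from hPM)
    have h3 := hmax _ (e.symm M').1.isPrime h2 (congrArg PrimeSpectrum.asIdeal (e.symm M').2)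
    have h4 : e.symm M' = e.symm P := Subtype.ext (PrimeSpectrum.ext (h3.trans h1.symm))
    rw [← e.symm.injective h4]
    exact hM
  have hsurj : Function.Surjective Φ := by
    have hF : IsField Φ.range := by
      refine MulEquiv.isField ?_ (Ideal.quotientKerEquivRange Φ).symm.toMulEquiv
      exact (Ideal.Quotient.maximal_ideal_iff_isField_quotient _).1 hP
    intro x
    obtain ⟨⟨a, b⟩, rfl⟩ := IsLocalization.mk'_surjective (nonZeroDivisors (A ⧸ q)) x
    obtain ⟨a, rfl⟩ := Ideal.Quotient.mk_surjective a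
    obtain ⟨b', hb'⟩ := Ideal.Quotient.mk_surjective (b : A ⧸ q)
    have hb0 : (⟨Φ (1 ⊗ₜ b'), ⟨_, rfl⟩⟩ : Φ.range) ≠ 0 := fun h => by
      have h0 : algebraMap A q.ResidueField b' = 0 := (hΦ b').symm.trans (congrArg Subtype.val h)
      rw [Ideal.algebraMap_residueField_eq_zero] at h0
      exact nonZeroDivisors.coe_ne_zero b (hb' ▸ Ideal.Quotient.eq_zero_iff_mem.2 h0)
    obtain ⟨⟨_, c, rfl⟩, hc⟩ := hF.mul_inv_cancel hb0
    refine ⟨(1 ⊗ₜ a) * c, ?_⟩
    symm
    rw [IsLocalization.mk'_eq_iff_eq_mul, map_mul, hΦ, mul_assoc, mul_comm (Φ c), ← hb',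
      show algebraMap (A ⧸ q) q.ResidueField (Ideal.Quotient.mk q b') = Φ (1 ⊗ₜ b') from (hΦ b').symm,
      show Φ (1 ⊗ₜ b') * Φ c = 1 from congrArg Subtype.val hc, mul_one]
    rfl
  haveI : Algebra.FiniteType k q.ResidueField := Algebra.FiniteType.of_surjective Φ hsurj
  exact finite_of_finite_type_of_isJacobsonRing k q.ResidueField

theorem exists_etale_section (R A : Type u) [CommRing R] [CommRing A] [Algebra R A]
    [Algebra.IsStandardSmooth R A] (p : Ideal R) [p.IsPrime] (K : Type u) [Field K]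
    [Algebra p.ResidueField K] [Algebra R K] [IsScalarTower R p.ResidueField K]
    [Module.Finite p.ResidueField K] [Algebra.IsSeparable p.ResidueField K] (a : A →ₐ[R] K) :
    ∃ (R' : Type u) (_ : CommRing R') (_ : Algebra R R'), Algebra.Etale R R' ∧
      ∃ (P : Ideal R') (_ : P.IsPrime) (α : A →ₐ[R] R'), P.comap α.toRingHom = RingHom.ker a.toRingHom := by
  classical
  let k := p.ResidueField
  obtain ⟨ι, σ, _, _, ⟨P⟩⟩ := ‹Algebra.IsStandardSmooth R A›.out
  have : Algebra.IsStandardSmoothOfRelativeDimension P.dimension R A :=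
    ⟨ι, σ, inferInstance, inferInstance, P, rfl⟩
  obtain ⟨g, hg⟩ := Algebra.IsStandardSmoothOfRelativeDimension.exists_etale_mvPolynomial
    (n := P.dimension) R A
  let M := MvPolynomial (Fin P.dimension) R
  let c : Fin P.dimension → K := fun i => a (g (MvPolynomial.X i))
  obtain ⟨R₁, _, _, _, ψ, hψ⟩ := S9435.result R p K
  -- clear the denominators
  have hfrac : ∀ i, ∃ y z : R₁, ψ z ≠ 0 ∧ ψ y = c i * ψ z := by
    intro i
    have hmem : c i ∈ Subfield.closure (Set.range ψ) := hψ ▸ trivial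
    obtain ⟨y, hy, z, hz, hyz⟩ := Subfield.mem_closure_iff.1 hmem
    rw [← ψ.coe_toRingHom, ← RingHom.coe_range, Subring.closure_eq] at hy hz
    obtain ⟨y, rfl⟩ := hy
    obtain ⟨z, rfl⟩ := hz
    by_cases hz0 : ψ z = 0
    · refine ⟨0, 1, by simp, ?_⟩
      have : c i = 0 := by rw [← hyz]; simp [hz0]
      simp [this]
    · exact ⟨y, z, hz0, (div_eq_iff hz0).1 hyz⟩
  choose y z hz hyz using hfrac
  let t : R₁ := ∏ i, z i
  have ht : ψ t ≠ 0 := by
    rw [map_prod]
    exact Finset.prod_ne_zero_iff.2 fun i _ => hz i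
  let R₂ := Localization.Away t
  have hunit : ∀ w : Submonoid.powers t, IsUnit (ψ w) := by
    rintro ⟨_, n, rfl⟩
    rw [map_pow]
    exact IsUnit.pow _ (IsUnit.mk0 _ ht)
  let ψ₂ : R₂ →ₐ[R] K := IsLocalization.liftAlgHom hunit
  have hψ₂ : ∀ r : R₁, ψ₂ (algebraMap R₁ R₂ r) = ψ r := fun r => IsLocalization.lift_eq _ r
  have hzu : ∀ i, IsUnit (algebraMap R₁ R₂ (z i)) := fun i =>
    isUnit_of_dvd_unit (map_dvd _ (Finset.dvd_prod_of_mem z (Finset.mem_univ i)))
      (IsLocalization.map_units R₂ (⟨t, Submonoid.mem_powers t⟩ : Submonoid.powers t))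
  let b : Fin P.dimension → R₂ := fun i => algebraMap R₁ R₂ (y i) * ↑(hzu i).unit⁻¹
  have hb : ∀ i, ψ₂ (b i) = c i := by
    intro i
    have h1 : ψ₂ (b i) * ψ₂ (algebraMap R₁ R₂ (z i)) = ψ₂ (algebraMap R₁ R₂ (y i)) := by
      rw [← map_mul, mul_assoc, IsUnit.val_inv_mul, mul_one]
    rw [hψ₂, hψ₂, hyz] at h1
    exact mul_right_cancel₀ (hz i) h1
  let : Algebra M A := g.toRingHom.toAlgebra
  have : IsScalarTower R M A := IsScalarTower.of_algebraMap_eq fun r => (g.commutes r).symm
  have : Algebra.Etale M A := hg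
  let β : M →ₐ[R] R₂ := MvPolynomial.aeval b
  let : Algebra M R₂ := β.toRingHom.toAlgebra
  have : IsScalarTower R M R₂ := IsScalarTower.of_algebraMap_eq fun r => (β.commutes r).symm
  let : Algebra M K := (ψ₂.comp β).toRingHom.toAlgebra
  have : IsScalarTower R M K := IsScalarTower.of_algebraMap_eq fun r => ((ψ₂.comp β).commutes r).symm
  have : Algebra.Etale R R₁ := ‹_›
  have : Algebra.Etale R₁ R₂ := Algebra.Etale.of_isLocalizationAway t
  have : Algebra.Etale R R₂ := Algebra.Etale.comp R R₁ R₂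
  let R₃ := R₂ ⊗[M] A
  have : Algebra.Etale R R₃ := Algebra.Etale.comp R R₂ R₃
  have hga : a.comp g = ψ₂.comp β := MvPolynomial.algHom_ext fun i => by
    show c i = ψ₂ (β (MvPolynomial.X i))
    rw [show β (MvPolynomial.X i) = b i from MvPolynomial.aeval_X b i, hb]
  let χ : R₃ →ₐ[M] K := Algebra.TensorProduct.lift (S := M)
    ({ ψ₂.toRingHom with commutes' := fun _ => rfl } : R₂ →ₐ[M] K)
    ({ a.toRingHom with commutes' := fun m => AlgHom.congr_fun hga m } : A →ₐ[M] K)
    fun _ _ => Commute.all _ _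
  refine ⟨R₃, inferInstance, inferInstance, inferInstance, RingHom.ker χ.toRingHom,
    RingHom.ker_isPrime _,
    (Algebra.TensorProduct.includeRight : A →ₐ[M] R₃).restrictScalars R, ?_⟩
  ext x
  show χ (1 ⊗ₜ x) = 0 ↔ a x = 0
  rw [show χ (1 ⊗ₜ x) = ψ₂ 1 * a x from rfl, map_one, one_mul]

/-- A closed point of a fibre of a smooth morphism in characteristic zero lies on an étale quasi-section. -/
theorem exists_quasiSection_of_charZero {k₀ : Type u} [Field k₀] [CharZero k₀] {X S : Scheme.{u}}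
    (σ : S ⟶ Spec (CommRingCat.of k₀)) (f : X ⟶ S) [Smooth f] (x : X)
    (hx : ∀ x' : X, x ⤳ x' → f x' = f x → x' = x) :
    ∃ (U : Scheme.{u}) (g : U ⟶ S) (u : U) (h : U ⟶ X), Etale g ∧ h ≫ f = g ∧ h u = x := by
  obtain ⟨U, hU, V, hV, hxV, e, hf⟩ := Smooth.exists_isStandardSmooth f x
  let φ := f.appLE U V e
  letI : Algebra Γ(S, U) Γ(X, V) := φ.hom.toAlgebra
  have : Algebra.IsStandardSmooth Γ(S, U) Γ(X, V) := hf
  let Q := hV.primeIdealOf ⟨x, hxV⟩
  let q := Q.asIdeal
  let p : Ideal Γ(S, U) := q.comap φ.hom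
  haveI : q.LiesOver p := ⟨rfl⟩
  letI : Algebra p.ResidueField q.ResidueField :=
    (Ideal.ResidueField.mapₐ p q (Algebra.ofId Γ(S, U) Γ(X, V)) rfl).toRingHom.toAlgebra
  haveI : IsScalarTower Γ(S, U) p.ResidueField q.ResidueField :=
    IsScalarTower.of_algebraMap_eq fun r =>
      ((Ideal.ResidueField.mapₐ p q (Algebra.ofId Γ(S, U) Γ(X, V)) rfl).commutes r).symm
  have hpt : ∀ Q' : PrimeSpectrum Γ(X, V), f (hV.fromSpec Q') =
      hU.fromSpec (PrimeSpectrum.comap φ.hom Q') := fun Q' => by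
    rw [← Scheme.Hom.comp_apply, ← IsAffineOpen.SpecMap_appLE_fromSpec f hU hV e, Scheme.Hom.comp_apply]
    rfl
  haveI : Module.Finite p.ResidueField q.ResidueField := by
    refine finite_residueField Γ(S, U) Γ(X, V) p q fun q' hq' hle hcomap => ?_
    let Q' : PrimeSpectrum Γ(X, V) := ⟨q', hq'⟩
    have h1 : x ⤳ hV.fromSpec Q' := by
      have := ((PrimeSpectrum.le_iff_specializes Q Q').1 hle).map hV.fromSpec.continuous
      rwa [hV.fromSpec_primeIdealOf] at this
    have h2 : f (hV.fromSpec Q') = f x := by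
      conv_rhs => rw [← show hV.fromSpec Q = x from hV.fromSpec_primeIdealOf _]
      rw [hpt, hpt]
      exact congrArg _ (PrimeSpectrum.ext hcomap)
    exact congrArg PrimeSpectrum.asIdeal (hV.fromSpec.isOpenEmbedding.injective
      ((hx _ h1 h2).trans (hV.fromSpec_primeIdealOf ⟨x, hxV⟩).symm) : Q' = Q)
  haveI : CharZero p.ResidueField :=
    charZero_of_injective_ringHom (RingHom.injective
      ((algebraMap Γ(S, U) p.ResidueField).comp
        (((Scheme.ΓSpecIso (CommRingCat.of k₀)).inv ≫ σ.appLE ⊤ U le_top).hom)))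
  haveI : Algebra.IsAlgebraic p.ResidueField q.ResidueField := Algebra.IsAlgebraic.of_finite _ _
  haveI : Algebra.IsSeparable p.ResidueField q.ResidueField :=
    Algebra.IsAlgebraic.isSeparable_of_perfectField
  obtain ⟨R', _, _, het, P, hP, α, hPq⟩ := exists_etale_section Γ(S, U) Γ(X, V) p q.ResidueField
    (IsScalarTower.toAlgHom Γ(S, U) Γ(X, V) q.ResidueField)
  let τ : Spec (CommRingCat.of R') ⟶ Spec Γ(S, U) :=
    Spec.map (CommRingCat.ofHom (algebraMap Γ(S, U) R'))
  have : Etale τ := by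
    rw [HasRingHomProperty.Spec_iff (P := @Etale), CommRingCat.hom_ofHom, RingHom.etale_algebraMap]
    exact het
  refine ⟨Spec (CommRingCat.of R'), τ ≫ hU.fromSpec, ⟨P, hP⟩,
    Spec.map (CommRingCat.ofHom α.toRingHom) ≫ hV.fromSpec, inferInstance, ?_, ?_⟩
  · rw [Category.assoc, ← IsAffineOpen.SpecMap_appLE_fromSpec f hU hV e, ← Spec.map_comp_assoc]
    congr 2
    ext r
    exact α.commutes r
  · have h1 : Spec.map (CommRingCat.ofHom α.toRingHom) ⟨P, hP⟩ = Q := PrimeSpectrum.ext (hPq.trans (Ideal.ext fun _ => Ideal.algebraMap_residueField_eq_zero))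
    rw [Scheme.Hom.comp_apply, h1]
    exact hV.fromSpec_primeIdealOf _

/-- A locally closed set containing all points closed in their fibres is everything. -/
theorem eq_univ_of_isLocallyClosed {X S : Scheme.{u}} (f : X ⟶ S) [LocallyOfFiniteType f] {E : Set X}
    (hE : IsLocallyClosed E) (h : ∀ x : X, (∀ x', x ⤳ x' → f x' = f x → x' = x) → x ∈ E) (x : X) :
    x ∈ E := by
  let iF := f.fiberι (f x)
  haveI : LocallyOfFiniteType (f.fiberToSpecResidueField (f x)) :=
    inferInstanceAs (LocallyOfFiniteType (Limits.pullback.snd f (S.fromSpecResidueField (f x))))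
  haveI : JacobsonSpace (f.fiber (f x)) :=
    LocallyOfFiniteType.jacobsonSpace (f.fiberToSpecResidueField (f x))
  have hcp : ∀ y ∈ closedPoints (f.fiber (f x)), iF y ∈ E := fun y hy => by
    refine h _ fun z hz hfz => ?_
    have hy1 : f (iF y) = f x := by
      have : iF y ∈ Set.range iF := ⟨y, rfl⟩
      rwa [Scheme.Hom.range_fiberι] at this
    obtain ⟨y', rfl⟩ : z ∈ Set.range iF := by
      rw [Scheme.Hom.range_fiberι]; exact hfz.trans hy1
    have h1 : y ⤳ y' := iF.isEmbedding.isInducing.specializes_iff.1 hz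
    have h2 : y' ∈ ({y} : Set _) := h1.mem_closed hy rfl
    rw [show y' = y from h2]
  obtain ⟨W, F, hW, hF, rfl⟩ := hE
  have hempty : ∀ L : Set (f.fiber (f x)), IsLocallyClosed L → L ∩ iF ⁻¹' (W ∩ F) = ∅ → L = ∅ := by
    intro L hL he
    by_contra hne
    obtain ⟨y, hyL, hy⟩ := nonempty_inter_closedPoints (Set.nonempty_iff_ne_empty.2 hne) hL
    exact Set.notMem_empty y (he ▸ ⟨hyL, hcp y hy⟩)
  obtain ⟨x₀, hx₀⟩ : x ∈ Set.range iF := by rw [Scheme.Hom.range_fiberι]; rfl
  have e1 := hempty (iF ⁻¹' W)ᶜ ((hW.preimage iF.continuous).isClosed_compl.isLocallyClosed)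
    (Set.eq_empty_of_forall_notMem fun y hy => hy.1 hy.2.1)
  have e2 := hempty (iF ⁻¹' F)ᶜ ((hF.preimage iF.continuous).isOpen_compl.isLocallyClosed)
    (Set.eq_empty_of_forall_notMem fun y hy => hy.1 hy.2.2)
  rw [← hx₀]
  exact ⟨by_contra fun hc => Set.notMem_empty x₀ (e1 ▸ hc), by_contra fun hc => Set.notMem_empty x₀ (e2 ▸ hc)⟩

end Groth.Agent.SmoothQS
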